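import Cfsg.Agent.EmbeddedModule.Semidirect
import Cfsg.Agent.BenderUse.Split
import Cfsg.Agent.UThreeSylow.Structure
import Cfsg.Agent.Suzuki.LieModel

/-!
# Faithful modules when the 2-rank is at least two, given Bender's theorem

A group with a strongly embedded subgroup and a four group has a normal subgroup of odd index mapping
onto `PSL₂(2^n)`, `Sz(2^n)` or `PSU₃(2^n)` with kernel of odd order.
-/

set_option autoImplicit false
set_option linter.style.haveILetI false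

namespace CfsgLib.EmbeddedModule

open Subgroup CfsgLib.RepBounds.Unit CfsgLib.AutPSU

universe u

variable {G : Type u} {V : Type*} [Group G] [Finite G] [AddCommGroup V] [Module (ZMod 2) V]
  [Module.Finite (ZMod 2) V]

/-- `S ∩ C_G(S)`. -/
abbrev centerIn (S : Sylow 2 G) : Subgroup G :=
  (S : Subgroup G) ⊓ Subgroup.centralizer ((S : Subgroup G) : Set G)

/-- An involution `z` of `S ∩ C_G(S)`. -/
theorem exists_central_invol (S : Sylow 2 G) (h2 : 2 ∣ Nat.card G) :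
    ∃ z ∈ centerIn S, orderOf z = 2 := by
  haveI : Fact (Nat.Prime 2) := ⟨Nat.prime_two⟩
  haveI : Nontrivial (S : Subgroup G) :=
    (Subgroup.nontrivial_iff_ne_bot _).2 (S.ne_bot_of_dvd_card h2)
  haveI := S.2.center_nontrivial
  obtain ⟨z, hz⟩ := exists_prime_orderOf_dvd_card' (G := Subgroup.center (S : Subgroup G)) 2 (by
    obtain ⟨k, hk⟩ := IsPGroup.iff_card.1 (S.2.to_subgroup (Subgroup.center (S : Subgroup G)))
    have := Finite.one_lt_card (α := Subgroup.center (S : Subgroup G))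
    rw [hk] at this ⊢
    rcases k with _ | k
    · simp at this
    · exact dvd_pow_self 2 (by omega))
  refine ⟨((z : (S : Subgroup G)) : G), ⟨(z : (S : Subgroup G)).2,
    Subgroup.mem_centralizer_iff.2 fun s hs =>
      congrArg Subtype.val (Subgroup.mem_center_iff.1 z.2 ⟨s, hs⟩)⟩, ?_⟩
  rw [Subgroup.orderOf_coe, Subgroup.orderOf_coe, hz]

/-- Data from a family: `|S| = 2^a`, `dim V ≥ 2a`, and `z` moves at least `log |S ∩ C(S)|`. -/
def FamilyBound (ρ : Representation (ZMod 2) G V) (S : Sylow 2 G) (z : G) : Prop :=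
  ∃ a : ℕ, Nat.card (S : Subgroup G) = 2 ^ a ∧ 2 * a ≤ Module.finrank (ZMod 2) V ∧
    ∀ n : ℕ, Nat.card (centerIn S) = 2 ^ n →
      n ≤ Module.finrank (ZMod 2) (LinearMap.range (ρ z - 1))

theorem card_sylow_of_hom (S : Sylow 2 G) {L : Subgroup G} (hL : Odd L.index) {Q : Type*} [Group Q]
    (π : L →* Q) (hπ : Function.Surjective π) (hker : Odd (Nat.card π.ker)) {a b : ℕ}
    (hQ : Nat.card Q = 2 ^ a * b) (hb : Odd b) : Nat.card (S : Subgroup G) = 2 ^ a := by
  haveI : Fact (Nat.Prime 2) := ⟨Nat.prime_two⟩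
  rw [S.card_eq_multiplicity]
  congr 1
  have h1 : Nat.card G = 2 ^ a * (b * Nat.card π.ker * L.index) := by
    rw [← L.card_mul_index, ← π.ker.card_mul_index, Subgroup.index_ker,
      MonoidHom.range_eq_top.2 hπ, Subgroup.card_top, hQ]
    ring
  have hb' : Odd (b * Nat.card π.ker * L.index) := (hb.mul hker).mul hL
  have hb0 : b * Nat.card π.ker * L.index ≠ 0 := hb'.pos.ne'
  rw [h1, Nat.factorization_mul (pow_ne_zero a two_ne_zero) hb0, Finsupp.add_apply,
    Nat.factorization_eq_zero_of_not_dvd (fun h => Nat.not_even_iff_odd.2 hb' (even_iff_two_dvd.2 h)),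
    Nat.prime_two.factorization_pow, Finsupp.single_eq_same, add_zero]

omit [Finite G] in
theorem map_ne_one {L : Subgroup G} {Q : Type*} [Group Q] (π : L →* Q)
    (hker : Odd (Nat.card π.ker)) {x : L} {j : ℕ} (hx : x ^ 2 ^ j = 1) (hx1 : x ≠ 1) : π x ≠ 1 :=
  fun h => hx1 (orderOf_eq_one_iff.1 (Nat.eq_one_of_dvd_coprimes
    ((Nat.coprime_two_left.2 hker).pow_left j) (orderOf_dvd_of_pow_eq_one hx)
    (Subgroup.orderOf_dvd_natCard _ (MonoidHom.mem_ker.2 h))))

variable (ρ : Representation (ZMod 2) G V) (S : Sylow 2 G)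

theorem familyBound_psl (hρ : Function.Injective ρ) {L : Subgroup G} (hL : Odd L.index)
    (hSL : (S : Subgroup G) ≤ L) {F : Type} [Field F] [Fintype F] {f : ℕ} (hf : 2 ≤ f)
    (hF : Fintype.card F = 2 ^ f) (π : L →* Matrix.ProjectiveSpecialLinearGroup (Fin 2) F)
    (hπ : Function.Surjective π) (hker : Odd (Nat.card π.ker)) {z : G} (hz : z ∈ centerIn S)
    (hz2 : orderOf z = 2) : FamilyBound ρ S z := by
  have hev : Even (Fintype.card F) := hF ▸ (Nat.even_pow.2 ⟨even_two, by omega⟩)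
  have hcard : Nat.card (S : Subgroup G) = 2 ^ f := by
    refine card_sylow_of_hom S hL π hπ hker (b := Fintype.card F ^ 2 - 1) ?_ ?_
    · rw [CfsgLib.Linear.card_PSL_two_even hev, hF]
    · have h2 : Even (Fintype.card F ^ 2) := Nat.even_pow.2 ⟨hev, two_ne_zero⟩
      have h1 : 1 ≤ Fintype.card F ^ 2 := Nat.one_le_pow _ _ Fintype.card_pos
      obtain ⟨c, hc⟩ := h2
      exact ⟨c - 1, by omega⟩
  have hzz : z ^ 2 = 1 := hz2 ▸ pow_orderOf_eq_one z
  have hzL : (⟨z, hSL hz.1⟩ : L) ^ 2 = 1 := Subtype.ext (by rw [SubmonoidClass.coe_pow]; exact hzz)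
  obtain ⟨h1, h2⟩ := bounds_psl (ρ := ρ.comp L.subtype) (hρ.comp L.subtype_injective) hf hF π hπ
    (s := ⟨z, hSL hz.1⟩) hzL (map_ne_one π hker (j := 1) (by rw [pow_one, hzL]) fun h => by
      rw [show z = 1 from congrArg Subtype.val h, orderOf_one] at hz2
      omega)
  refine ⟨f, hcard, h2, fun n hn => le_trans ?_ h1⟩
  have := Subgroup.card_dvd_of_le (inf_le_left : centerIn S ≤ (S : Subgroup G))
  rw [hn, hcard] at this
  exact (Nat.pow_dvd_pow_iff_le_right (by norm_num)).1 this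

theorem familyBound_sz (hρ : Function.Injective ρ) {L : Subgroup G} (hL : Odd L.index)
    (hSL : (S : Subgroup G) ≤ L) {F : Type} [Field F] [Fintype F] {m : ℕ} (hm : 1 ≤ m)
    (hF : Fintype.card F = 2 ^ (2 * m + 1)) (π : L →* Cfsg.Lie.Sz F (2 ^ (m + 1)))
    (hπ : Function.Surjective π) (hker : Odd (Nat.card π.ker)) {z : G} (hz : z ∈ centerIn S)
    (hz2 : orderOf z = 2) : FamilyBound ρ S z := by
  have hS : CfsgLib.Suzuki.SzField F m := ⟨hm, hF⟩
  set e := (CfsgLib.Suzuki.lieSzEquiv hS).symm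
  set π' : L →* Cfsg.Sz F m := e.toMonoidHom.comp π with hπ'
  have hπs : Function.Surjective π' := e.surjective.comp hπ
  have hker' : Odd (Nat.card π'.ker) := by
    rw [hπ', ← MonoidHom.comap_ker, (MonoidHom.ker_eq_bot_iff _).2 (MulEquiv.injective _), MonoidHom.comap_bot]
    exact hker
  have hcard : Nat.card (S : Subgroup G) = 2 ^ (2 * (2 * m + 1)) := by
    refine card_sylow_of_hom S hL π' hπs hker'
      (b := (Fintype.card F ^ 2 + 1) * (Fintype.card F - 1)) ?_ ?_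
    · rw [CfsgLib.Suzuki.card_sz hS, hF, mul_assoc, ← pow_mul, mul_comm (2 * m + 1) 2]
    · have hev : Even (Fintype.card F) := hF ▸ (Nat.even_pow.2 ⟨even_two, by omega⟩)
      refine (Even.add_one (Nat.even_pow.2 ⟨hev, two_ne_zero⟩)).mul ?_
      have h1 : 1 ≤ Fintype.card F := Fintype.card_pos
      obtain ⟨c, hc⟩ := hev
      exact ⟨c - 1, by omega⟩
  have hzz : z ^ 2 = 1 := hz2 ▸ pow_orderOf_eq_one z
  have hzL : (⟨z, hSL hz.1⟩ : L) ^ 2 = 1 := Subtype.ext (by rw [SubmonoidClass.coe_pow]; exact hzz)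
  have hy : orderOf (π' ⟨z, hSL hz.1⟩) = 2 := by
    haveI : Fact (Nat.Prime 2) := ⟨Nat.prime_two⟩
    refine orderOf_eq_prime (by rw [← map_pow, hzL, map_one])
      (map_ne_one π' hker' (j := 1) (by rw [pow_one, hzL]) fun h => ?_)
    rw [show z = 1 from congrArg Subtype.val h, orderOf_one] at hz2
    omega
  obtain ⟨h1, h2⟩ := bounds_sz (ρ := ρ.comp L.subtype) (hρ.comp L.subtype_injective) hS π' hπs hy
  refine ⟨_, hcard, by omega, fun n hn => le_trans ?_ h1⟩
  have := Subgroup.card_dvd_of_le (inf_le_left : centerIn S ≤ (S : Subgroup G))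
  rw [hn, hcard] at this
  exact (Nat.pow_dvd_pow_iff_le_right (by norm_num)).1 this

theorem familyBound_psu (hρ : Function.Injective ρ) {L : Subgroup G} (hL : Odd L.index)
    (hSL : (S : Subgroup G) ≤ L) {F : Type} [Field F] [Fintype F] {f : ℕ} (hf : 2 ≤ f)
    (hF : Fintype.card F = (2 ^ f) ^ 2) (π : L →* Cfsg.PSU 3 F (2 ^ f))
    (hπ : Function.Surjective π) (hker : Odd (Nat.card π.ker)) {z : G} (hz : z ∈ centerIn S)
    (hz2 : orderOf z = 2) : FamilyBound ρ S z := by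
  haveI : Fact (Nat.Prime 2) := ⟨Nat.prime_two⟩
  have hev : Even (2 ^ f) := Nat.even_pow.2 ⟨even_two, by omega⟩
  have hq1 : Odd (2 ^ f + 1) := hev.add_one
  have hcard : Nat.card (S : Subgroup G) = 2 ^ (3 * f) := by
    have hform := CfsgLib.SuzukiU.card_psu3 hF
    have hoddR : Odd (((2 ^ f) ^ 2 - 1) * ((2 ^ f) ^ 3 + 1)) := by
      refine Odd.mul ?_ ((Nat.even_pow.2 ⟨hev, by norm_num⟩).add_one)
      obtain ⟨c, hc⟩ : Even ((2 ^ f) ^ 2) := Nat.even_pow.2 ⟨hev, two_ne_zero⟩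
      have h1 : 1 ≤ (2 ^ f) ^ 2 := Nat.one_le_pow _ _ (Nat.pow_pos two_pos)
      exact ⟨c - 1, by omega⟩
    have hd : Odd (Nat.gcd 3 (2 ^ f + 1)) :=
      (by decide : Odd 3).of_dvd_nat (Nat.gcd_dvd_left _ _)
    have hmul : Nat.gcd 3 (2 ^ f + 1) * Nat.card (Cfsg.PSU 3 F (2 ^ f)) =
        (2 ^ f) ^ 3 * (((2 ^ f) ^ 2 - 1) * ((2 ^ f) ^ 3 + 1)) := by
      refine Nat.eq_of_mul_eq_mul_left (Nat.succ_pos (2 ^ f)) ?_
      linarith
    have hcop : (2 ^ (3 * f)).Coprime (Nat.gcd 3 (2 ^ f + 1)) :=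
      (Nat.coprime_two_left.2 hd).pow_left _
    obtain ⟨b, hb⟩ : 2 ^ (3 * f) ∣ Nat.card (Cfsg.PSU 3 F (2 ^ f)) :=
      hcop.dvd_of_dvd_mul_left ⟨_, by rw [hmul, ← pow_mul, mul_comm f 3]⟩
    refine card_sylow_of_hom S hL π hπ hker hb ?_
    refine hoddR.of_dvd_nat ⟨Nat.gcd 3 (2 ^ f + 1), ?_⟩
    have he : (2 ^ f) ^ 3 = 2 ^ (3 * f) := by rw [← pow_mul, mul_comm]
    rw [he] at hmul ⊢
    rw [hb, mul_left_comm] at hmul
    rw [← Nat.eq_of_mul_eq_mul_left (Nat.pow_pos two_pos) hmul, mul_comm]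
  have hzz : z ^ 2 = 1 := hz2 ▸ pow_orderOf_eq_one z
  have hzL : (⟨z, hSL hz.1⟩ : L) ^ 2 = 1 := Subtype.ext (by rw [SubmonoidClass.coe_pow]; exact hzz)
  set SL := S.subtype hSL
  set T := SL.mapSurjective hπ
  have hTmem : ∀ x : G, ∀ hx : x ∈ (S : Subgroup G), π ⟨x, hSL hx⟩ ∈ (T : Subgroup (Cfsg.PSU 3 F (2 ^ f))) :=
    fun x hx => by
      rw [Sylow.coe_mapSurjective]
      refine Subgroup.mem_map_of_mem _ ?_
      rw [Sylow.coe_subtype, Subgroup.mem_subgroupOf]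
      exact hx
  have hTcen : ∀ x : G, ∀ hx : x ∈ centerIn S, ∀ y ∈ (T : Subgroup (Cfsg.PSU 3 F (2 ^ f))),
      y * π ⟨x, hSL hx.1⟩ = π ⟨x, hSL hx.1⟩ * y := by
    intro x hx y hy
    rw [Sylow.coe_mapSurjective] at hy
    obtain ⟨w, hw, rfl⟩ := hy
    rw [← map_mul, ← map_mul]
    congr 1
    rw [SetLike.mem_coe, Sylow.coe_subtype, Subgroup.mem_subgroupOf] at hw
    exact Subtype.ext (Subgroup.mem_centralizer_iff.1 hx.2 _ hw)
  -- the centre has order at most `q`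
  have hcen : ∀ n : ℕ, Nat.card (centerIn S) = 2 ^ n → n ≤ f := fun n hn => by
    have hg : CfsgLib.UThreeSylow.Good F f (2 ^ f) := ⟨rfl, by omega, hF⟩
    obtain ⟨e⟩ := CfsgLib.UThreeSylow.nonempty_equiv_sylow_PSU hg T
    let g : centerIn S →* Subgroup.center (T : Subgroup (Cfsg.PSU 3 F (2 ^ f))) :=
      { toFun := fun x => ⟨⟨π ⟨x.1, hSL x.2.1⟩, hTmem _ x.2.1⟩, Subgroup.mem_center_iff.2
          fun y => Subtype.ext (hTcen _ x.2 _ y.2)⟩
        map_one' := Subtype.ext (Subtype.ext (by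
          show π _ = 1
          rw [← map_one π]; rfl))
        map_mul' := fun x y => Subtype.ext (Subtype.ext (by
          show π _ = π _ * π _
          rw [← map_mul]; rfl)) }
    have hinj : Function.Injective g := by
      refine (injective_iff_map_eq_one _).2 fun x hx => ?_
      by_contra hne
      obtain ⟨j, hj⟩ := S.2 ⟨x.1, x.2.1⟩
      refine map_ne_one π hker (x := ⟨x.1, hSL x.2.1⟩) (j := j)
        (Subtype.ext (by simpa using congrArg Subtype.val hj)) (fun h => hne (Subtype.ext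
          (congrArg (fun u : L => (u : G)) h))) ?_
      exact congrArg (fun u : Subgroup.center (T : Subgroup (Cfsg.PSU 3 F (2 ^ f))) =>
        ((u.1 : (T : Subgroup (Cfsg.PSU 3 F (2 ^ f)))) : Cfsg.PSU 3 F (2 ^ f))) hx
    have h := Subgroup.card_dvd_of_injective g hinj
    rw [hn, ← Nat.card_congr (Subgroup.centerCongr e).toEquiv,
      CfsgLib.UThreeSylow.card_center hg] at h
    exact (Nat.pow_dvd_pow_iff_le_right (by norm_num)).1 h
  obtain ⟨C, hC⟩ := CfsgLib.RepBounds.Unit.exists_conjField (2 ^ f) hF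
  obtain ⟨ψ⟩ : Nonempty (Cfsg.PSU 3 F (2 ^ f) ≃* PS C (Fin 2 ⊕ Fin 1)) := by
    rw [← hC]
    exact CfsgLib.LocalEven.UnitaryBounds.psuEquiv C
  set π' : L →* PS C (Fin 2 ⊕ Fin 1) := ψ.toMonoidHom.comp π with hπ'
  haveI := CfsgLib.LocalEven.UnitaryBounds.exists_q_eq C hC
  have hψT : ∀ y, y ∈ (T.mapSurjective (f := ψ.toMonoidHom) ψ.surjective : Subgroup _) →
      y * π' ⟨z, hSL hz.1⟩ = π' ⟨z, hSL hz.1⟩ * y := by
    intro y hy
    obtain ⟨w, hw, rfl⟩ := (show y ∈ (T : Subgroup _).map ψ.toMonoidHom from hy)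
    show ψ w * ψ (π _) = ψ (π _) * ψ w
    rw [← map_mul, ← map_mul, hTcen z hz w hw]
  have hne : π' ⟨z, hSL hz.1⟩ ≠ 1 := fun h => by
    refine map_ne_one π hker (x := ⟨z, hSL hz.1⟩) (j := 1) (by rw [pow_one, hzL]) (fun h' => ?_)
      (ψ.injective (h.trans (map_one ψ).symm))
    rw [show z = 1 from congrArg Subtype.val h', orderOf_one] at hz2
    omega
  obtain ⟨v, hv⟩ := TP_of_sylow_center 2 (T.mapSurjective (f := ψ.toMonoidHom) ψ.surjective)
    (x := π' ⟨z, hSL hz.1⟩)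
    (Subgroup.mem_map_of_mem ψ.toMonoidHom (hTmem z hz.1)) hψT hne
  obtain ⟨h1, h2⟩ := bounds_psu (ρ := ρ.comp L.subtype) (hρ.comp L.subtype_injective) C hf hC π'
    (ψ.surjective.comp hπ) hv
  exact ⟨3 * f, hcard, by omega, fun n hn => le_trans (le_trans (hcen n hn) (by omega)) h1⟩

/-- The bound from Bender's theorem. -/
theorem familyBound (hS : CfsgLib.BenderUse.SplitHyp.{u}) (hρ : Function.Injective ρ)
    {H : Subgroup G} (hH : Cfsg.IsStronglyEmbedded H) {W : Subgroup G}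
    (hW : CfsgLib.SEmbed.IsFour W) {z : G} (hz : z ∈ centerIn S) (hz2 : orderOf z = 2) :
    FamilyBound ρ S z := by
  have hOH := CfsgLib.BenderUse.oddCore_le hH hW
  set q := QuotientGroup.mk' (Cfsg.oddCore G) with hq
  have hqs : Function.Surjective q := QuotientGroup.mk'_surjective _
  have hH' := CfsgLib.BenderUse.map_isStronglyEmbedded hH (Cfsg.oddCore G) hOH
    CfsgLib.TwoGroups.odd_card_oddCore
  obtain ⟨L₀, hn, hodd, hsimple, hnc, hHL, -⟩ := CfsgLib.BenderUse.exists_simple_normal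
    (CfsgLib.BenderUse.hyp_of_split hS) hH'
    (CfsgLib.PLocal.pPrimeCore_quotient_pPrimeCore_eq_bot 2 G)
  haveI := hn
  haveI := hsimple
  have hfam := CfsgLib.BenderUse.families_of_split hS hnc hHL
  set L := L₀.comap q
  have hLodd : Odd L.index := by rwa [Subgroup.index_comap_of_surjective _ hqs]
  have hSL : (S : Subgroup G) ≤ L := fun x hx => by
    obtain ⟨j, hj⟩ := S.2 ⟨x, hx⟩
    exact CfsgLib.BenderUse.mem_of_odd_index L hLodd (k := j) (by simpa using congrArg Subtype.val hj)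
  let π₀ : L →* L₀ := (q.comp L.subtype).codRestrict L₀ fun x => x.2
  have hπ₀ : Function.Surjective π₀ := fun y => by
    obtain ⟨x, hx⟩ := hqs y
    exact ⟨⟨x, show q x ∈ L₀ by rw [hx]; exact y.2⟩, Subtype.ext hx⟩
  have hker : Odd (Nat.card π₀.ker) := by
    refine (CfsgLib.TwoGroups.odd_card_oddCore (G := G)).of_dvd_nat ?_
    rw [← Subgroup.card_map_of_injective L.subtype_injective]
    refine Subgroup.card_dvd_of_le ?_
    rintro _ ⟨x, hx, rfl⟩
    exact (QuotientGroup.eq_one_iff _).1 (congrArg Subtype.val (MonoidHom.mem_ker.1 hx))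
  have hk : ∀ {Q : Type} [Group Q] (e : L₀ ≃* Q), Odd (Nat.card (e.toMonoidHom.comp π₀).ker) := by
    intro Q _ e
    rw [← MonoidHom.comap_ker, (MonoidHom.ker_eq_bot_iff _).2 (MulEquiv.injective _), MonoidHom.comap_bot]
    exact hker
  rcases hfam with ⟨F, iF, iT, ⟨f, hf, hF⟩, ⟨e⟩⟩ | ⟨F, iF, iT, m, hm, hF, ⟨e⟩⟩ |
      ⟨F, iF, iT, f, hf, hF, ⟨e⟩⟩
  · exact familyBound_psl ρ S hρ hLodd hSL hf hF (e.toMonoidHom.comp π₀)
      (e.surjective.comp hπ₀) (hk e) hz hz2
  · exact familyBound_sz ρ S hρ hLodd hSL hm hF (e.toMonoidHom.comp π₀)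
      (e.surjective.comp hπ₀) (hk e) hz hz2
  · exact familyBound_psu ρ S hρ hLodd hSL hf hF (e.toMonoidHom.comp π₀)
      (e.surjective.comp hπ₀) (hk e) hz hz2

end CfsgLib.EmbeddedModule
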