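import Cfsg.Agent.EmbeddedModule.RankOne
import Cfsg.Agent.EmbeddedModule.RankTwo
import Cfsg.Agent.BenderUse.Main

/-!
# Dimensions of faithful modules for groups with a strongly embedded subgroup

`bounds` is the statement S3841, given `SplitHyp`.
-/

set_option autoImplicit false
set_option linter.style.haveILetI false

namespace CfsgLib.EmbeddedModule

open Subgroup CfsgLib.SEmbed CfsgLib.Small

universe u

variable {G : Type u} {V : Type*} [Group G] [Finite G] [AddCommGroup V] [Module (ZMod 2) V]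
  [Module.Finite (ZMod 2) V] (ρ : Representation (ZMod 2) G V)

omit [Finite G] in
/-- Powers move no more than the element. -/
theorem finrank_range_pow_le (x : G) (i : ℕ) :
    Module.finrank (ZMod 2) (LinearMap.range (ρ (x ^ i) - 1)) ≤
      Module.finrank (ZMod 2) (LinearMap.range (ρ x - 1)) := by
  refine Submodule.finrank_mono ?_
  rw [map_pow, ← mul_geom_sum, Module.End.mul_eq_comp]
  exact LinearMap.range_comp_le_range _ _

omit [Finite G] in
/-- Conjugates move equally. -/
theorem finrank_range_conj (g x : G) :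
    Module.finrank (ZMod 2) (LinearMap.range (ρ (g * x * g⁻¹) - 1)) =
      Module.finrank (ZMod 2) (LinearMap.range (ρ x - 1)) := by
  have key : ∀ a y : G, Module.finrank (ZMod 2) (LinearMap.range (ρ (a * y * a⁻¹) - 1)) ≤
      Module.finrank (ZMod 2) (LinearMap.range (ρ y - 1)) := fun a y => by
    have e : ρ (a * y * a⁻¹) - 1 = ρ a * (ρ y - 1) * ρ a⁻¹ := by
      rw [mul_sub, sub_mul, mul_one, ← map_mul, ← map_mul, ← map_mul, mul_inv_cancel, map_one]
    rw [e, mul_assoc, Module.End.mul_eq_comp, LinearMap.range_comp]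
    refine (Submodule.finrank_map_le _ _).trans (Submodule.finrank_mono ?_)
    rw [Module.End.mul_eq_comp]
    exact LinearMap.range_comp_le_range _ _
  refine le_antisymm (key g x) ?_
  have := key g⁻¹ (g * x * g⁻¹)
  rwa [show g⁻¹ * (g * x * g⁻¹) * g⁻¹⁻¹ = x by group] at this

omit [Module.Finite (ZMod 2) V] in
/-- An `r`-subgroup of the odd core, normalised by `S`, that the involution does not centralise. -/
theorem exists_invariant_pGroup (S : Sylow 2 G) {z : G} (hnc : ∃ o ∈ Cfsg.oddCore G, z * o ≠ o * z) :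
    ∃ (r : ℕ) (R : Subgroup G), r.Prime ∧ r ≠ 2 ∧ IsPGroup r R ∧
      (∀ s ∈ (S : Subgroup G), ∀ x ∈ R, s * x * s⁻¹ ∈ R) ∧ ∃ x ∈ R, z * x ≠ x * z := by
  haveI : Fact (Nat.Prime 2) := ⟨Nat.prime_two⟩
  set O := Cfsg.oddCore G with hO
  have hodd : Odd (Nat.card O) := CfsgLib.TwoGroups.odd_card_oddCore
  have hinv : ∀ r : ℕ, r.Prime → ∃ R : Subgroup G, R ≤ O ∧
      Nat.card R = r ^ (Nat.card O).factorization r ∧
      ∀ s ∈ (S : Subgroup G), ∀ x ∈ R, s * x * s⁻¹ ∈ R := by
    intro r hr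
    haveI := Fact.mk hr
    obtain ⟨P⟩ : Nonempty (Sylow r O) := inferInstance
    set P₀ := (P : Subgroup O).map O.subtype with hP₀
    set N := Subgroup.normalizer (P₀ : Set G) with hN
    have htop : N ⊔ O = ⊤ := Sylow.normalizer_sup_eq_top P
    have hNodd : Odd N.index := by
      refine hodd.of_dvd_nat ?_
      have h := CfsgLib.PLocal.card_sup_dvd_mul N O
      rw [htop, Subgroup.card_top, ← N.card_mul_index] at h
      exact Nat.dvd_of_mul_dvd_mul_left Nat.card_pos h
    obtain ⟨Q⟩ : Nonempty (Sylow 2 N) := inferInstance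
    have hQc : Nat.card ((Q : Subgroup N).map N.subtype) = 2 ^ (Nat.card G).factorization 2 := by
      rw [Subgroup.card_map_of_injective N.subtype_injective, Q.card_eq_multiplicity,
        ← N.card_mul_index, Nat.factorization_mul Nat.card_pos.ne' hNodd.pos.ne', Finsupp.add_apply,
        Nat.factorization_eq_zero_of_not_dvd
          (fun h => Nat.not_even_iff_odd.2 hNodd (even_iff_two_dvd.2 h)), add_zero]
    obtain ⟨g, hg⟩ := MulAction.exists_smul_eq G (Sylow.ofCard _ hQc) S
    refine ⟨P₀.map (MulAut.conj g).toMonoidHom, ?_, ?_, ?_⟩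
    · rintro _ ⟨x, hx, rfl⟩
      exact (inferInstance : O.Normal).conj_mem x (Subgroup.map_subtype_le _ hx) g
    · rw [Subgroup.card_map_of_injective (MulAut.conj g).injective,
        Subgroup.card_map_of_injective O.subtype_injective, P.card_eq_multiplicity]
    · intro s hs x hx
      rw [← hg, Sylow.coe_subgroup_smul, Sylow.coe_ofCard] at hs
      obtain ⟨_, ⟨w, -, rfl⟩, rfl⟩ := hs
      obtain ⟨y, hy, rfl⟩ := hx
      refine ⟨(w : G) * y * (w : G)⁻¹, (Subgroup.mem_normalizer_iff.1 w.2 y).1 hy, ?_⟩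
      simp [mul_assoc]
  by_contra hno
  push Not at hno
  obtain ⟨o, ho, hoz⟩ := hnc
  set C := O ⊓ Subgroup.centralizer ({z} : Set G)
  have hdvd : Nat.card O ∣ Nat.card C := by
    rw [Nat.dvd_iff_prime_pow_dvd_dvd]
    intro r k hr hk
    obtain ⟨R, hRO, hRc, hRS⟩ := hinv r hr
    refine ((pow_dvd_pow r ((hr.pow_dvd_iff_le_factorization Nat.card_pos.ne').1 hk)).trans ?_)
    rw [← hRc]
    refine Subgroup.card_dvd_of_le (le_inf hRO fun x hx => ?_)
    rw [Subgroup.mem_centralizer_singleton_iff]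
    haveI := Fact.mk hr
    by_cases hr2 : r = 2
    · subst hr2
      rw [Nat.factorization_eq_zero_of_not_dvd (fun h => Nat.not_even_iff_odd.2 hodd
        (even_iff_two_dvd.2 h)), pow_zero] at hRc
      rw [Subgroup.eq_bot_of_card_eq R hRc, Subgroup.mem_bot] at hx
      rw [hx, one_mul, mul_one]
    · exact (hno r R hr hr2 (IsPGroup.of_card hRc) hRS x hx).symm
  have hCO : C = O := Subgroup.eq_of_le_of_card_ge inf_le_left (Nat.le_of_dvd Nat.card_pos hdvd)
  exact hoz (Subgroup.mem_centralizer_singleton_iff.1 (hCO.ge ho).2).symm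

/-- Dimension bound without four groups. -/
theorem dim_of_rankOne (hρ : Function.Injective ρ) {H : Subgroup G}
    (hH : Cfsg.IsStronglyEmbedded H) (hV : ∀ W : Subgroup G, ¬ IsFour W) (S : Sylow 2 G) {k : ℕ}
    (hk : Nat.card (S : Subgroup G) = 2 ^ k) : 2 * k ≤ Module.finrank (ZMod 2) V := by
  haveI : Fact (Nat.Prime 2) := ⟨Nat.prime_two⟩
  have huf := uniqueFix hH
  have h2G : 2 ∣ Nat.card G :=
    (even_iff_two_dvd.1 hH.2.1).trans (Subgroup.card_subgroup_dvd_card H)
  obtain ⟨z, hz, hzo⟩ := exists_central_invol S h2G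
  have hzc : ∀ s ∈ (S : Subgroup G), s * z = z * s := fun s hs =>
    Subgroup.mem_centralizer_iff.1 hz.2 s hs
  have huniq : ∀ s ∈ (S : Subgroup G), orderOf s = 2 → s = z := fun s hs hso => by
    by_contra hne
    exact hV _ (isFour_closure_pair hso hzo hne (hzc s hs))
  -- the involution does not centralise the odd core
  have hnc : ∃ o ∈ Cfsg.oddCore G, z * o ≠ o * z := by
    by_contra hall
    push Not at hall
    obtain ⟨x, hx⟩ := huf.exists_fix z hzo
    have hfix : ∀ o ∈ Cfsg.oddCore G, o • x = x := fun o ho =>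
      commute_fix huf hzo (hall o ho).symm hx
    obtain ⟨g, hg⟩ := huf.transitive x ((1 : G) : G ⧸ H)
    have hle : Cfsg.oddCore G ≤ H := fun o ho => by
      refine (smul_one_eq_iff H o).1 ?_
      have h1 := hfix _ ((inferInstance : (Cfsg.oddCore G).Normal).conj_mem o ho g⁻¹)
      rw [inv_inv, mul_smul, mul_smul, inv_smul_eq_iff] at h1
      rw [← hg]
      exact h1
    have htop := CfsgLib.BenderUse.oddCore_sup_eq_top hH hV
    rw [sup_eq_right.2 hle] at htop
    exact hH.1 htop
  obtain ⟨r, R, hr, hr2, hRp, hRS, hRz⟩ := exists_invariant_pGroup S hnc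
  haveI := Fact.mk hr
  refine two_mul_le_finrank hr2 hk hzo hz.1 huniq (fun hk2 => ?_) hRp hRS hRz ρ hρ
  rcases CfsgLib.BenderUse.cyclic_or_quaternion hV S with hc | ⟨m, -, ⟨e⟩⟩
  · obtain ⟨x, hx⟩ := hc.exists_generator
    have ho : orderOf x = 2 ^ k := by rw [orderOf_eq_card_of_forall_mem_zpowers hx, hk]
    obtain ⟨i, rfl⟩ : ∃ i, k = i + 2 := ⟨k - 2, by omega⟩
    refine ⟨((x ^ 2 : (S : Subgroup G)) : G), (x ^ 2).2, ?_⟩
    rw [Subgroup.orderOf_coe, orderOf_pow_of_dvd two_ne_zero (ho ▸ dvd_pow_self 2 (by omega)), ho,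
      pow_succ, Nat.mul_div_cancel _ two_pos]
    congr 1
  · haveI : NeZero (2 ^ m) := ⟨pow_ne_zero _ two_ne_zero⟩
    have hc : Nat.card (S : Subgroup G) = 2 ^ (m + 2) := by
      rw [Nat.card_congr e.toEquiv, Nat.card_eq_fintype_card, QuaternionGroup.card]
      ring
    obtain rfl : k = m + 2 := Nat.pow_right_injective le_rfl (hk.symm.trans hc)
    refine ⟨((e.symm (QuaternionGroup.a 1) : (S : Subgroup G)) : G), (e.symm _).2, ?_⟩
    rw [Subgroup.orderOf_coe, MulEquiv.orderOf_eq, QuaternionGroup.orderOf_a_one]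
    simp [pow_succ, mul_comm]

/-- The statement S3841, given Bender's theorem. -/
theorem bounds (hB : CfsgLib.BenderUse.SplitHyp.{u}) (H : Subgroup G)
    (hH : Cfsg.IsStronglyEmbedded H) (S : Sylow 2 G) (hρ : Function.Injective ρ) :
    (∀ k : ℕ, Nat.card ↥(S : Subgroup G) = 2 ^ k → 2 * k ≤ Module.finrank (ZMod 2) V) ∧
      ∀ n : ℕ, (∀ z ∈ centerIn S, z ^ 2 = 1) → Nat.card ↥(centerIn S) = 2 ^ n →
        ∀ s ∈ (S : Subgroup G), s ≠ 1 →
          n ≤ Module.finrank (ZMod 2) ↥(LinearMap.range (ρ s - 1)) := by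
  haveI : Fact (Nat.Prime 2) := ⟨Nat.prime_two⟩
  have huf := uniqueFix hH
  have h2G : 2 ∣ Nat.card G :=
    (even_iff_two_dvd.1 hH.2.1).trans (Subgroup.card_subgroup_dvd_card H)
  obtain ⟨z, hz, hzo⟩ := exists_central_invol S h2G
  by_cases hV : ∃ W : Subgroup G, IsFour W
  · obtain ⟨W, hW⟩ := hV
    obtain ⟨a, ha, had, hnb⟩ := familyBound ρ S hB hρ hH hW hz hzo
    refine ⟨fun k hk => ?_, fun n _ hn s hs hs1 => ?_⟩
    · rwa [Nat.pow_right_injective le_rfl (hk.symm.trans ha)]
    · refine (hnb n hn).trans ?_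
      obtain ⟨e, he⟩ := IsPGroup.iff_orderOf.1 S.2 ⟨s, hs⟩
      rw [Subgroup.orderOf_mk] at he
      rcases e with _ | e
      · exact absurd (orderOf_eq_one_iff.1 (by rw [he, pow_zero])) hs1
      have ht : orderOf (s ^ 2 ^ e) = 2 := by
        rw [orderOf_pow_of_dvd (pow_ne_zero _ two_ne_zero) (he ▸ pow_dvd_pow 2 (by omega)), he,
          pow_succ, Nat.mul_div_cancel_left _ (by positivity)]
      haveI := nontrivial_cosets hH
      obtain ⟨g, hg⟩ := isConj_iff.1 (isConj_invol huf ht hzo)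
      rw [← hg, finrank_range_conj]
      exact finrank_range_pow_le ρ s _
  · push Not at hV
    refine ⟨fun k hk => dim_of_rankOne ρ hρ hH hV S hk, fun n hsq hn s hs hs1 => ?_⟩
    have hle : centerIn S ≤ Subgroup.zpowers z := fun x hx => by
      by_cases hx1 : x = 1
      · subst hx1
        exact one_mem _
      have hxo : orderOf x = 2 := orderOf_eq_prime (hsq x hx) hx1
      have : x = z := by
        by_contra hne
        exact hV _ (isFour_closure_pair hxo hzo hne
          (Subgroup.mem_centralizer_iff.1 hz.2 x hx.1))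
      exact this ▸ Subgroup.mem_zpowers z
    have h1 := Subgroup.card_dvd_of_le hle
    rw [hn, Nat.card_zpowers, hzo] at h1
    have hn1 : n ≤ 1 := (Nat.pow_dvd_pow_iff_le_right one_lt_two).1 (by simpa using h1)
    refine hn1.trans (Nat.one_le_iff_ne_zero.2 fun h0 => hs1 (hρ ?_))
    rw [Submodule.finrank_eq_zero, LinearMap.range_eq_bot, sub_eq_zero] at h0
    rw [h0, map_one]

end CfsgLib.EmbeddedModule
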