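import Cfsg.Agent.EmbeddedModule.Regular
import Cfsg.Agent.AGroups.Basic

/-!
# Faithful modules when a Sylow 2-subgroup has a single involution

A 2-group of order `2^k` with a unique involution acting on a group of odd order, the involution
nontrivially: a faithful module over the field with two elements has dimension at least `2k`.
-/

set_option autoImplicit false
set_option linter.style.haveILetI false

namespace CfsgLib.EmbeddedModule

open Subgroup

variable {G V : Type*} [Group G] [Finite G] [AddCommGroup V] [Module (ZMod 2) V]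
  [Module.Finite (ZMod 2) V]

omit [Finite G] in
/-- An element of order `2^(e+1)` needs dimension more than `2^e`. -/
theorem two_pow_lt_finrank (ρ : Representation (ZMod 2) G V) (hρ : Function.Injective ρ) {x : G}
    {e : ℕ} (hx : orderOf x = 2 ^ (e + 1)) : 2 ^ e < Module.finrank (ZMod 2) V := by
  have hx1 : x ^ 2 ^ e ≠ 1 := fun h => by
    have h1 := orderOf_dvd_of_pow_eq_one h
    rw [hx] at h1
    exact absurd (Nat.le_of_dvd (by positivity) h1)
      (not_le.2 (Nat.pow_lt_pow_right one_lt_two (Nat.lt_succ_self e)))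
  haveI : Nontrivial (Module.End (ZMod 2) V) :=
    ⟨⟨ρ (x ^ 2 ^ e), ρ 1, fun h => hx1 (hρ h)⟩⟩
  haveI : CharP (Module.End (ZMod 2) V) 2 :=
    charP_of_injective_algebraMap (algebraMap (ZMod 2) (Module.End (ZMod 2) V)).injective 2
  haveI : Fact (Nat.Prime 2) := ⟨Nat.prime_two⟩
  have key : ∀ i : ℕ, (ρ x - 1) ^ 2 ^ i = ρ (x ^ 2 ^ i) - 1 := fun i => by
    rw [sub_pow_char_pow_of_commute _ _ (Commute.one_right (ρ x)), one_pow, map_pow]
  by_contra hle
  push Not at hle
  have hnil : IsNilpotent (ρ x - 1) := ⟨2 ^ (e + 1), by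
    rw [key, ← hx, pow_orderOf_eq_one, map_one, sub_self]⟩
  have h0 : (ρ x - 1) ^ Module.finrank (ZMod 2) V = 0 := by
    have h1 := LinearMap.aeval_self_charpoly (ρ x - 1)
    rwa [IsNilpotent.charpoly_eq_X_pow_finrank hnil, map_pow, Polynomial.aeval_X] at h1
  have h2 : (ρ x - 1) ^ 2 ^ e = 0 := by
    rw [← Nat.add_sub_cancel' hle, pow_add, h0, zero_mul]
  rw [key, sub_eq_zero] at h2
  exact hx1 (hρ (h2.trans (map_one ρ).symm))

/-- The order of `GL_d(2)`. -/
def glTwo (d : ℕ) : ℕ := ∏ i : Fin d, (2 ^ d - 2 ^ (i : ℕ))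

omit [Finite G] in
/-- A subgroup of a group with a faithful module divides the order of the linear group. -/
theorem card_dvd_glTwo (ρ : Representation (ZMod 2) G V) (hρ : Function.Injective ρ) (R : Subgroup G) :
    Nat.card R ∣ glTwo (Module.finrank (ZMod 2) V) := by
  classical
  haveI : Fact (Nat.Prime 2) := ⟨Nat.prime_two⟩
  let b := Module.finBasis (ZMod 2) V
  let f : R →* Matrix (Fin (Module.finrank (ZMod 2) V)) (Fin (Module.finrank (ZMod 2) V)) (ZMod 2) :=
    ((LinearMap.toMatrixAlgEquiv b).toMulEquiv.toMonoidHom).comp (ρ.comp R.subtype)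
  have h := Subgroup.card_dvd_of_injective f.toHomUnits fun a c h => by
    have h1 : f a = f c := congrArg Units.val h
    exact Subtype.ext (hρ ((LinearMap.toMatrixAlgEquiv b).injective h1))
  refine h.trans (dvd_of_eq ?_)
  have hc := Matrix.card_GL_field (𝔽 := ZMod 2) (Module.finrank (ZMod 2) V)
  rw [ZMod.card] at hc
  exact hc

theorem glTwo_dvd_nine {d : ℕ} (hd : d ≤ 9) : glTwo d ∣ glTwo 9 := by
  interval_cases d <;> simp [glTwo, Fin.prod_univ_succ]

/-- The arithmetic of the small cases. -/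
theorem small_cases {d k j r : ℕ} (hr : r.Prime) (hr2 : r ≠ 2) (hj : 1 ≤ j)
    (hdiv : r ^ (j + 1) ∣ glTwo d) (hk : 2 ^ k ∣ r ^ j - 1) (hd : d < 2 * k)
    (he : 2 ≤ k → 2 ^ (k - 2) < d) : False := by
  have hk5 : k ≤ 5 := by
    by_contra h
    obtain ⟨i, rfl⟩ : ∃ i, k = i + 6 := ⟨k - 6, by omega⟩
    have h1 := he (by omega)
    rw [show i + 6 - 2 = i + 4 by omega, pow_add] at h1
    have := Nat.lt_two_pow_self (n := i)
    omega
  have hd9 : d ≤ 9 := by omega
  have hr2d : r ^ 2 ∣ glTwo 9 :=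
    ((pow_dvd_pow r (by omega : 2 ≤ j + 1)).trans hdiv).trans (glTwo_dvd_nine hd9)
  have h9 : glTwo 9 = 2 ^ 36 * (3 ^ 5 * (5 ^ 2 * (7 ^ 3 * (17 * (31 * (73 * 127)))))) := by
    simp [glTwo, Fin.prod_univ_succ]
  rw [h9] at hr2d
  have hr37 : r = 3 ∨ r = 5 ∨ r = 7 := by
    have hne : ∀ {q : ℕ}, q.Prime → r ∣ q → r = q := fun hq h => (Nat.prime_dvd_prime_iff_eq hr hq).1 h
    by_contra hno
    push Not at hno
    have hcop : ∀ {q : ℕ} (i : ℕ), q.Prime → r ≠ q → (r ^ 2).Coprime (q ^ i) := fun i hq h =>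
      ((Nat.coprime_primes hr hq).2 h).pow _ _
    have h1 := (hcop 36 Nat.prime_two hr2).dvd_of_dvd_mul_left hr2d
    have h2 := (hcop 5 Nat.prime_three hno.1).dvd_of_dvd_mul_left h1
    have h3 := (hcop 2 Nat.prime_five hno.2.1).dvd_of_dvd_mul_left h2
    have h4 := (hcop 3 (by norm_num) hno.2.2).dvd_of_dvd_mul_left h3
    have hr1 : r ∣ 17 * (31 * (73 * 127)) := (dvd_pow_self r two_ne_zero).trans h4
    rcases (Nat.Prime.dvd_mul hr).1 hr1 with h | h
    · rw [hne (by norm_num) h] at h4
      norm_num at h4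
    rcases (Nat.Prime.dvd_mul hr).1 h with h | h
    · rw [hne (by norm_num) h] at h4
      norm_num at h4
    rcases (Nat.Prime.dvd_mul hr).1 h with h | h
    · rw [hne (by norm_num) h] at h4
      norm_num at h4
    · rw [hne (by norm_num) h] at h4
      norm_num at h4
  have hj5 : j + 1 ≤ 5 := by
    by_contra hj6
    have h6 : r ^ 6 ∣ glTwo 9 :=
      ((pow_dvd_pow r (by omega : 6 ≤ j + 1)).trans hdiv).trans (glTwo_dvd_nine hd9)
    rw [h9] at h6
    rcases hr37 with rfl | rfl | rfl <;> norm_num at h6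
  have hj4 : j ≤ 4 := by omega
  rcases hr37 with rfl | rfl | rfl <;> interval_cases k <;> interval_cases j <;>
    first
    | omega
    | (norm_num at hk; done)
    | (interval_cases d <;> simp [glTwo, Fin.prod_univ_succ] at hdiv)

/-- The dimension bound. -/
theorem two_mul_le_finrank {P R : Subgroup G} {k r : ℕ} [Fact r.Prime] (hr2 : r ≠ 2)
    (hP : Nat.card P = 2 ^ k) {z : G} (hz : orderOf z = 2) (hzP : z ∈ P)
    (huniq : ∀ s ∈ P, orderOf s = 2 → s = z)
    (hbig : 2 ≤ k → ∃ x ∈ P, orderOf x = 2 ^ (k - 2 + 1))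
    (hR : IsPGroup r R) (hPR : ∀ s ∈ P, ∀ x ∈ R, s * x * s⁻¹ ∈ R) (hnc : ∃ x ∈ R, z * x ≠ x * z)
    (ρ : Representation (ZMod 2) G V) (hρ : Function.Injective ρ) :
    2 * k ≤ Module.finrank (ZMod 2) V := by
  classical
  haveI : Fintype P := Fintype.ofFinite P
  haveI : Fact (Nat.Prime 2) := ⟨Nat.prime_two⟩
  have hPp : IsPGroup 2 P := IsPGroup.of_card hP
  have hzz : z * z = 1 := by rw [← pow_two, ← hz, pow_orderOf_eq_one]
  have hzi : z⁻¹ = z := inv_eq_of_mul_eq_one_right hzz
  have hcent : ∀ s ∈ P, s * z = z * s := fun s hs => by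
    have h := huniq (s * z * s⁻¹) (P.mul_mem (P.mul_mem hs hzP) (P.inv_mem hs))
      (by rw [← MulAut.conj_apply, MulEquiv.orderOf_eq, hz])
    exact mul_inv_eq_iff_eq_mul.1 h
  have hpow : ∀ s ∈ P, s ≠ 1 → ∃ i : ℕ, s ^ i = z := fun s hs hs1 => by
    obtain ⟨e, he⟩ := IsPGroup.iff_orderOf.1 hPp ⟨s, hs⟩
    rw [Subgroup.orderOf_mk] at he
    rcases e with _ | e
    · exact absurd (orderOf_eq_one_iff.1 (by rw [he, pow_zero])) hs1
    exact ⟨2 ^ e, huniq _ (P.pow_mem hs _) (by
      rw [orderOf_pow_of_dvd (pow_ne_zero _ two_ne_zero) (he ▸ pow_dvd_pow 2 (by omega)), he,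
        pow_succ, Nat.mul_div_cancel_left _ (by positivity)])⟩
  obtain ⟨m, hm⟩ := IsPGroup.iff_card.1 hR
  have hodd : Odd (Nat.card R) := hm ▸ ((Fact.out : r.Prime).odd_of_ne_two hr2).pow
  set C : Subgroup R := (Subgroup.centralizer ({z} : Set G)).subgroupOf R with hCdef
  have hmemC : ∀ x : R, x ∈ C ↔ (x : G) * z = z * (x : G) := fun x => by
    rw [hCdef, Subgroup.mem_subgroupOf, Subgroup.mem_centralizer_singleton_iff]
  have hsq : ∀ x : R, x * x = 1 → x = 1 := fun x hx => by
    have h1 : orderOf x ∣ 2 := orderOf_dvd_of_pow_eq_one (by rw [pow_two, hx])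
    exact orderOf_eq_one_iff.1 (Nat.eq_one_of_dvd_coprimes (Nat.coprime_two_left.2 hodd) h1
      (orderOf_dvd_natCard x))
  by_cases hC : C = ⊥
  · -- `z` inverts `R`
    have hzR : ∀ x : R, z * (x : G) * z ∈ R := fun x => by
      have := hPR z hzP x x.2
      rwa [hzi] at this
    have hinj : Function.Injective
        (fun x : R => x⁻¹ * (⟨z * (x : G) * z, hzR x⟩ : R)) := fun x y hxy => by
      have h1 : (x : G)⁻¹ * (z * (x : G) * z) = (y : G)⁻¹ * (z * (y : G) * z) :=
        congrArg Subtype.val hxy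
      have h2 : y * x⁻¹ ∈ C := by
        rw [hmemC]
        show (y : G) * (x : G)⁻¹ * z = z * ((y : G) * (x : G)⁻¹)
        have h3 : (y : G) * (x : G)⁻¹ = z * (y : G) * (x : G)⁻¹ * z := by
          calc (y : G) * (x : G)⁻¹
              = (y : G) * ((x : G)⁻¹ * (z * (x : G) * z)) * (z⁻¹ * (x : G)⁻¹ * z⁻¹) := by group
            _ = z * (y : G) * (z * z) * (x : G)⁻¹ * z := by rw [h1, hzi]; group
            _ = z * (y : G) * (x : G)⁻¹ * z := by rw [hzz, mul_one]
        calc (y : G) * (x : G)⁻¹ * z = z * (y : G) * (x : G)⁻¹ * (z * z) := by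
              rw [← mul_assoc, ← h3]
          _ = z * ((y : G) * (x : G)⁻¹) := by rw [hzz]; group
      rw [hC, Subgroup.mem_bot, mul_inv_eq_one] at h2
      exact h2.symm
    have hsurj := Finite.surjective_of_injective hinj
    have hinv : ∀ x ∈ R, z * x * z = x⁻¹ := fun x hx => by
      obtain ⟨y, hy⟩ := hsurj ⟨x, hx⟩
      have hy' : (y : G)⁻¹ * (z * (y : G) * z) = x := congrArg Subtype.val hy
      rw [← hy', mul_inv_rev, mul_inv_rev, mul_inv_rev, inv_inv, hzi]
      calc z * ((y : G)⁻¹ * (z * (y : G) * z)) * z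
          = z * (y : G)⁻¹ * z * (y : G) * (z * z) := by group
        _ = z * ((y : G)⁻¹ * z) * (y : G) := by rw [hzz]; group
    have hab : ∀ x ∈ R, ∀ y ∈ R, x * y = y * x := fun x hx y hy => by
      have h := hinv (x * y) (R.mul_mem hx hy)
      rw [show z * (x * y) * z = (z * x * z) * (z * y * z) by
        calc z * (x * y) * z = z * x * (1 : G) * y * z := by group
          _ = _ := by rw [← hzz]; group,
        hinv x hx, hinv y hy, mul_inv_rev] at h
      simpa [← mul_inv_rev] using h.symm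
    have h1 := card_le_finrank_of_sum_ne_zero hPp (ρ.comp P.subtype)
      (sum_ne_zero hzP hpow hPR hab hodd hnc ρ hρ)
    rw [hP] at h1
    refine le_trans ?_ h1
    rcases Nat.eq_zero_or_pos k with rfl | hk
    · simp
    · obtain ⟨i, rfl⟩ : ∃ i, k = i + 1 := ⟨k - 1, by omega⟩
      have := Nat.lt_two_pow_self (n := i)
      rw [pow_succ]
      omega
  · by_contra hlt
    push Not at hlt
    -- `P` is semiregular on the nontrivial cosets of `C`
    have hPC : ∀ (s : G) (hs : s ∈ P) (x : R), x ∈ C → (⟨s * x * s⁻¹, hPR s hs x x.2⟩ : R) ∈ C := by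
      intro s hs x hx
      rw [hmemC] at hx ⊢
      show s * (x : G) * s⁻¹ * z = z * (s * (x : G) * s⁻¹)
      have hc : Commute s z := hcent s hs
      have : Commute (s * (x : G) * s⁻¹) z := (hc.mul_left hx).mul_left hc.inv_left
      exact this.eq
    let cj : P → R → R := fun s x => ⟨(s : G) * x * (s : G)⁻¹, hPR s s.2 x x.2⟩
    letI : MulAction P (R ⧸ C) :=
      { smul := fun s => Quotient.map' (cj s) fun x y hxy => by
          rw [QuotientGroup.leftRel_apply] at hxy ⊢
          have e : (cj s x)⁻¹ * cj s y = ⟨(s : G) * ((x⁻¹ * y : R) : G) * (s : G)⁻¹,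
              hPR s s.2 _ (x⁻¹ * y).2⟩ := Subtype.ext (by
            show ((s : G) * x * (s : G)⁻¹)⁻¹ * ((s : G) * y * (s : G)⁻¹) =
              (s : G) * ((x : G)⁻¹ * (y : G)) * (s : G)⁻¹
            group)
          rw [e]
          exact hPC s s.2 _ hxy
        one_smul := fun q => Quotient.inductionOn' q fun x => by
          show Quotient.mk'' (cj 1 x) = _
          congr 1
          exact Subtype.ext (by simp [cj])
        mul_smul := fun s t q => Quotient.inductionOn' q fun x => by
          show Quotient.mk'' (cj (s * t) x) = Quotient.mk'' (cj s (cj t x))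
          congr 1
          exact Subtype.ext (by simp [cj, mul_assoc]) }
    have hfix : ∀ s : P, s ≠ 1 → ∀ q : R ⧸ C, s • q = q → q = ((1 : R) : R ⧸ C) := by
      intro s hs q hq
      obtain ⟨i, hi⟩ := hpow s s.2 (fun e => hs (Subtype.ext e))
      have hzq : (⟨z, hzP⟩ : P) • q = q := by
        rw [show (⟨z, hzP⟩ : P) = s ^ i from Subtype.ext (by simp [hi])]
        exact MulAction.mem_stabilizer_iff.1
          (Subgroup.pow_mem _ (MulAction.mem_stabilizer_iff.2 hq) i)
      induction q using Quotient.inductionOn' with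
      | h x =>
        have h1 : (cj ⟨z, hzP⟩ x)⁻¹ * x ∈ C := by
          have := QuotientGroup.eq.1 (show ((cj ⟨z, hzP⟩ x : R) : R ⧸ C) = (x : R ⧸ C) from hzq)
          exact this
        set c := (cj ⟨z, hzP⟩ x)⁻¹ * x with hcdef
        have hxc : (x : G) = z * (x : G) * z * (c : G) := by
          rw [hcdef]
          show (x : G) = z * (x : G) * z * ((z * (x : G) * z⁻¹)⁻¹ * (x : G))
          rw [hzi]; group
        have hcz : z * (c : G) * z = (c : G) := by
          rw [← (hmemC c).1 h1, mul_assoc, hzz, mul_one]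
        have hzx : z * (x : G) * z = (x : G) * (c : G) := by
          calc z * (x : G) * z = z * (z * (x : G) * z * (c : G)) * z := by rw [← hxc]
            _ = (z * z) * (x : G) * (z * (c : G) * z) := by group
            _ = (x : G) * (c : G) := by rw [hzz, hcz, one_mul]
        have hc1 : c = 1 := hsq c (Subtype.ext (mul_left_cancel (a := (x : G)) (by
          show (x : G) * ((c : G) * (c : G)) = (x : G) * 1
          rw [mul_one, ← mul_assoc, ← hzx, ← hxc])))
        refine QuotientGroup.eq.2 ?_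
        rw [mul_one]
        refine C.inv_mem ((hmemC x).2 ?_)
        rw [hc1, OneMemClass.coe_one, mul_one] at hzx
        calc (x : G) * z = z * (x : G) * z * z := by rw [hzx]
          _ = z * (x : G) := by rw [mul_assoc, hzz, mul_one]
    have hdvd := CfsgLib.AGroups.card_dvd_of_semiregular (H := P) (α := R ⧸ C)
      {((1 : R) : R ⧸ C)}
      (fun a ha s => by
        rw [Set.mem_singleton_iff] at ha
        subst ha
        exact congrArg (fun u : R => (u : R ⧸ C)) (Subtype.ext (by simp [cj]) : cj s 1 = 1))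
      (fun a ha s hs => by
        by_contra hs1
        exact ha (hfix s hs1 a hs))
    rw [Set.ncard_singleton, hP, ← Subgroup.index_eq_card] at hdvd
    have hmul := C.card_mul_index
    rw [hm] at hmul
    obtain ⟨c, -, hc⟩ := (Nat.dvd_prime_pow Fact.out).1 (Dvd.intro _ hmul)
    obtain ⟨j, -, hj⟩ := (Nat.dvd_prime_pow Fact.out).1 (Dvd.intro_left _ hmul)
    have hc1 : 1 ≤ c := by
      by_contra h0
      rw [show c = 0 by omega, pow_zero] at hc
      exact hC (Subgroup.eq_bot_of_card_eq C hc)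
    have hj1 : 1 ≤ j := by
      by_contra h0
      rw [show j = 0 by omega, pow_zero, Subgroup.index_eq_one] at hj
      obtain ⟨x, hx, hxz⟩ := hnc
      exact hxz ((hmemC ⟨x, hx⟩).1 (hj ▸ Subgroup.mem_top _)).symm
    rw [hj] at hdvd
    have hRd : r ^ (j + 1) ∣ glTwo (Module.finrank (ZMod 2) V) := by
      refine dvd_trans ?_ (card_dvd_glTwo ρ hρ R)
      rw [hm, ← hmul, hc, hj, ← pow_add]
      exact pow_dvd_pow r (by omega)
    refine small_cases Fact.out hr2 hj1 hRd hdvd hlt fun hk => ?_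
    obtain ⟨x, -, hx⟩ := hbig hk
    exact two_pow_lt_finrank ρ hρ hx

end CfsgLib.EmbeddedModule
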