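import Mathlib

/-!
# Regular modules from a commutative group of odd order

A 2-group with a unique involution `z` acting on a commutative group `R` of odd order so that `z` is
not trivial: in every faithful module over the field with two elements the 2-group has a free orbit.
-/

set_option autoImplicit false
set_option linter.style.haveILetI false

namespace CfsgLib.EmbeddedModule

variable {S V : Type*} [Group S] [Finite S] [AddCommGroup V] [Module (ZMod 2) V]
  [Module.Finite (ZMod 2) V]

/-- If the sum of the elements of a 2-group acts nontrivially, the module is as large as the group. -/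
theorem card_le_finrank_of_sum_ne_zero [Fintype S] (hS : IsPGroup 2 S)
    (ρ : Representation (ZMod 2) S V) (h : ∑ s, ρ s ≠ 0) :
    Nat.card S ≤ Module.finrank (ZMod 2) V := by
  classical
  haveI : Fact (Nat.Prime 2) := ⟨Nat.prime_two⟩
  obtain ⟨v, hv⟩ : ∃ v, (∑ s, ρ s) v ≠ 0 := by
    by_contra hno
    push Not at hno
    exact h (LinearMap.ext hno)
  rw [LinearMap.sum_apply] at hv
  have hli : LinearIndependent (ZMod 2) fun s => ρ s v := by
    rw [Fintype.linearIndependent_iff]
    intro a ha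
    by_contra hne
    let K := {b : S → ZMod 2 // ∑ s, b s • ρ s v = 0}
    letI : MulAction S K :=
      { smul := fun g b => ⟨fun s => b.1 (g⁻¹ * s), by
          have h1 := congrArg (ρ g) b.2
          rw [map_sum, map_zero] at h1
          refine Eq.trans ?_ h1
          refine Fintype.sum_equiv (Equiv.mulLeft g⁻¹) _ _ fun s => ?_
          simp only [Equiv.coe_mulLeft, map_smul, map_mul, Module.End.mul_apply]
          rw [← Module.End.mul_apply (ρ g), ← map_mul, mul_inv_cancel, map_one,
            Module.End.one_apply]⟩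
        one_smul := fun b => Subtype.ext (funext fun s => by
          show b.1 ((1 : S)⁻¹ * s) = b.1 s
          rw [inv_one, one_mul])
        mul_smul := fun g g' b => Subtype.ext (funext fun s => by
          show b.1 ((g * g')⁻¹ * s) = b.1 (g'⁻¹ * (g⁻¹ * s))
          rw [mul_inv_rev, mul_assoc]) }
    let K' : Submodule (ZMod 2) (S → ZMod 2) :=
      LinearMap.ker (Fintype.linearCombination (ZMod 2) fun s => ρ s v)
    have hKK : Nat.card K = Nat.card K' := Nat.card_congr (Equiv.subtypeEquivRight fun b => by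
      rw [LinearMap.mem_ker, Fintype.linearCombination_apply])
    haveI : Nontrivial K' := by
      refine ⟨⟨⟨a, ?_⟩, 0, fun e => hne fun s => congrFun (congrArg Subtype.val e) s⟩⟩
      rw [LinearMap.mem_ker, Fintype.linearCombination_apply, ha]
    have h2 : 2 ∣ Nat.card K := by
      rw [hKK, Module.natCard_eq_pow_finrank (K := ZMod 2) (V := K'), Nat.card_zmod]
      exact dvd_pow_self 2 Module.finrank_pos.ne'
    obtain ⟨b, hb, hb0⟩ := hS.exists_fixed_point_of_prime_dvd_card_of_fixed_point K h2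
      (a := ⟨0, by simp⟩) (fun g => Subtype.ext rfl)
    have hconst : ∀ s, b.1 s = b.1 1 := fun s => by
      have h1 : b.1 (s⁻¹ * s) = b.1 s := congrFun (congrArg Subtype.val (hb s)) s
      rw [inv_mul_cancel] at h1
      exact h1.symm
    have hsum := b.2
    simp only [hconst] at hsum
    rw [← Finset.smul_sum] at hsum
    rcases smul_eq_zero.1 hsum with h0 | h0
    · exact hb0 (Subtype.ext (funext fun s => by
        show (0 : ZMod 2) = b.1 s
        rw [hconst, h0]))
    · exact hv h0
  rw [Nat.card_eq_fintype_card]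
  exact hli.fintype_card_le_finrank

variable {G : Type*} [Group G] [Finite G]

omit [Module.Finite (ZMod 2) V] in
/-- The sum over the 2-group is not zero. -/
theorem sum_ne_zero {P R : Subgroup G} [Fintype P] {z : G} (hzP : z ∈ P)
    (hpow : ∀ s ∈ P, s ≠ 1 → ∃ i : ℕ, s ^ i = z)
    (hPR : ∀ s ∈ P, ∀ x ∈ R, s * x * s⁻¹ ∈ R) (hR : ∀ x ∈ R, ∀ y ∈ R, x * y = y * x)
    (hodd : Odd (Nat.card R)) (hnc : ∃ x ∈ R, z * x ≠ x * z)
    (ρ : Representation (ZMod 2) G V) (hρ : Function.Injective ρ) :
    ∑ s : P, ρ (s : G) ≠ 0 := by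
  classical
  haveI : Fact (Nat.Prime 2) := ⟨Nat.prime_two⟩
  obtain ⟨x₀, hx₀, hx₀z⟩ := hnc
  haveI : Nontrivial (Module.End (ZMod 2) V) := ⟨⟨ρ x₀, ρ 1, fun e => hx₀z (by simp [hρ e])⟩⟩
  set T : Set (Module.End (ZMod 2) V) := ρ '' (R : Set G) with hT
  set A := Algebra.adjoin (ZMod 2) T with hA
  letI : CommRing A := Algebra.adjoinCommRingOfComm (ZMod 2) (by
    rintro _ ⟨x, hx, rfl⟩ _ ⟨y, hy, rfl⟩
    rw [← map_mul, ← map_mul, hR x hx y hy])
  haveI : Nontrivial A := ⟨⟨1, 0, fun e => one_ne_zero (congrArg Subtype.val e)⟩⟩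
  haveI : CharP A 2 := charP_of_injective_algebraMap (algebraMap (ZMod 2) A).injective 2
  -- conjugation by `P`
  have hconj : ∀ s ∈ P, ∀ a ∈ A, ρ s * a * ρ s⁻¹ ∈ A := by
    intro s hs a ha
    induction ha using Algebra.adjoin_induction with
    | mem y hy =>
      obtain ⟨x, hx, rfl⟩ := hy
      rw [← map_mul, ← map_mul]
      exact Algebra.subset_adjoin ⟨_, hPR s hs x hx, rfl⟩
    | algebraMap c =>
      rw [← Algebra.commutes, mul_assoc, ← map_mul, mul_inv_cancel, map_one, mul_one]
      exact A.algebraMap_mem c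
    | add y y' _ _ hy hy' => rw [mul_add, add_mul]; exact A.add_mem hy hy'
    | mul y y' _ _ hy hy' =>
      have := A.mul_mem hy hy'
      rwa [show ρ s * y * ρ s⁻¹ * (ρ s * y' * ρ s⁻¹) = ρ s * (y * (ρ s⁻¹ * ρ s) * y') * ρ s⁻¹ by
        simp only [mul_assoc], ← map_mul, inv_mul_cancel, map_one, mul_one] at this
  let σ : P → A → A := fun s a => ⟨ρ (s : G) * a * ρ (s : G)⁻¹, hconj _ s.2 _ a.2⟩
  -- every element of `A` is a power of itself
  obtain ⟨d, hd, hd2⟩ : ∃ d : ℕ, 0 < d ∧ ∀ x ∈ R, x ^ 2 ^ d = x := by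
    refine ⟨(Nat.card R).totient, Nat.totient_pos.2 Nat.card_pos, fun x hx => ?_⟩
    have h2 := Nat.ModEq.pow_totient (Nat.coprime_two_left.2 hodd)
    have h3 : 2 ^ (Nat.card R).totient ≡ 1 [MOD orderOf x] :=
      h2.of_dvd (Subgroup.orderOf_dvd_natCard _ hx)
    simpa using pow_eq_pow_iff_modEq.2 h3
  have hfrob : ∀ a : A, a ^ 2 ^ d = a := by
    rintro ⟨a, ha⟩
    induction ha using Algebra.adjoin_induction with
    | mem y hy =>
      obtain ⟨x, hx, rfl⟩ := hy
      exact Subtype.ext (by rw [SubmonoidClass.coe_pow, ← map_pow, hd2 x hx])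
    | algebraMap c =>
      show (algebraMap (ZMod 2) A c) ^ 2 ^ d = algebraMap (ZMod 2) A c
      rw [← map_pow, ZMod.pow_card_pow]
    | add y y' hy hy' iy iy' =>
      show (⟨y, hy⟩ + ⟨y', hy'⟩ : A) ^ 2 ^ d = ⟨y, hy⟩ + ⟨y', hy'⟩
      rw [add_pow_char_pow, iy, iy']
    | mul y y' hy hy' iy iy' =>
      show (⟨y, hy⟩ * ⟨y', hy'⟩ : A) ^ 2 ^ d = ⟨y, hy⟩ * ⟨y', hy'⟩
      rw [mul_pow, iy, iy']
  -- a maximal ideal at which `z` acts
  let a₀ : A := ⟨ρ x₀, Algebra.subset_adjoin ⟨x₀, hx₀, rfl⟩⟩
  have hne : σ ⟨z, hzP⟩ a₀ - a₀ ≠ 0 := fun e => hx₀z (by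
    have h1 : ρ z * ρ x₀ * ρ z⁻¹ = ρ x₀ := congrArg Subtype.val (sub_eq_zero.1 e)
    rw [← map_mul, ← map_mul] at h1
    exact mul_inv_eq_iff_eq_mul.1 (hρ h1))
  obtain ⟨M, hM, hMz⟩ : ∃ M : Ideal A, M.IsMaximal ∧ σ ⟨z, hzP⟩ a₀ - a₀ ∉ M := by
    by_contra hall
    push Not at hall
    set b := σ ⟨z, hzP⟩ a₀ - a₀
    have hu : IsUnit (1 - b ^ (2 ^ d - 1)) := by
      by_contra hnu
      obtain ⟨M, hM, hmem⟩ := exists_max_ideal_of_mem_nonunits hnu
      have hb : b ^ (2 ^ d - 1) ∈ M := M.pow_mem_of_mem (hall M hM) _ (by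
        have := Nat.one_lt_two_pow hd.ne'; omega)
      exact hM.ne_top (M.eq_top_iff_one.2 (by simpa using M.add_mem hmem hb))
    refine hne (hu.mul_left_eq_zero.1 ?_)
    rw [mul_sub, mul_one, ← pow_succ', Nat.sub_add_cancel Nat.one_le_two_pow, hfrob, sub_self]
  -- each nontrivial element acts at that ideal
  have hsep : ∀ s : P, s ≠ 1 → ∃ a : A, σ s a - a ∉ M := by
    intro s hs
    by_contra hall
    push Not at hall
    have hj : ∀ (j : ℕ) (a : A), σ (s ^ j) a - a ∈ M := by
      intro j
      induction j with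
      | zero =>
        intro a
        have : σ (s ^ 0) a = a := Subtype.ext (by simp [σ])
        rw [this, sub_self]
        exact M.zero_mem
      | succ j ih =>
        intro a
        have : σ (s ^ (j + 1)) a = σ s (σ (s ^ j) a) := Subtype.ext (by
          simp [σ, pow_succ', mul_assoc])
        rw [this, ← sub_add_sub_cancel _ (σ (s ^ j) a) a]
        exact M.add_mem (hall _) (ih a)
    obtain ⟨i, hi⟩ := hpow s s.2 (fun e => hs (Subtype.ext e))
    refine hMz ?_
    rw [show (⟨z, hzP⟩ : P) = s ^ i from Subtype.ext (by simp [hi])]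
    exact hj i a₀
  intro hsum
  have key : ∀ W : Finset P, (1 : P) ∉ W → ∃ c : P → A, c 1 ∉ M ∧ (∀ t ∈ W, c t = 0) ∧
      ∑ s : P, (c s : Module.End (ZMod 2) V) * ρ (s : G) = 0 := by
    intro W
    induction W using Finset.induction_on with
    | empty =>
      intro _
      exact ⟨fun _ => 1, fun h => hM.ne_top (M.eq_top_iff_one.2 h), by simp, by simpa using hsum⟩
    | insert t W htW ih =>
      intro h1
      rw [Finset.mem_insert, not_or] at h1
      obtain ⟨c, hc1, hcW, hc⟩ := ih h1.2
      obtain ⟨a, ha⟩ := hsep t (Ne.symm h1.1)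
      refine ⟨fun s => c s * (σ s a - σ t a), fun h => ?_, fun u hu => ?_, ?_⟩
      · rcases hM.isPrime.mem_or_mem h with h | h
        · exact hc1 h
        · refine ha ?_
          have e1 : σ 1 a = a := Subtype.ext (by simp [σ])
          rw [e1] at h
          have := M.neg_mem h
          rwa [neg_sub] at this
      · rcases Finset.mem_insert.1 hu with rfl | hu
        · simp
        · simp [hcW u hu]
      · calc ∑ s : P, ((c s * (σ s a - σ t a) : A) : Module.End (ZMod 2) V) * ρ (s : G)
            = ∑ s : P, (c s : Module.End (ZMod 2) V) * ρ (s : G) * (a : Module.End (ZMod 2) V) -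
              ∑ s : P, ((σ t a * c s : A) : Module.End (ZMod 2) V) * ρ (s : G) := by
              rw [← Finset.sum_sub_distrib]
              refine Finset.sum_congr rfl fun s _ => ?_
              rw [mul_sub, mul_comm (c s) (σ t a), AddSubgroupClass.coe_sub, sub_mul]
              congr 1
              show (c s : Module.End (ZMod 2) V) * (ρ (s : G) * a * ρ (s : G)⁻¹) * ρ (s : G) = _
              rw [mul_assoc, mul_assoc (ρ (s : G) * (a : Module.End (ZMod 2) V)), ← map_mul,
                inv_mul_cancel, map_one, mul_one, ← mul_assoc]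
          _ = 0 := by
              simp only [MulMemClass.coe_mul, mul_assoc (σ t a : Module.End (ZMod 2) V)]
              rw [← Finset.sum_mul, ← Finset.mul_sum, hc, zero_mul, mul_zero, sub_zero]
  obtain ⟨c, hc1, hc0, hc⟩ := key (Finset.univ.erase 1) (Finset.notMem_erase _ _)
  refine hc1 ?_
  rw [Finset.sum_eq_single (1 : P) (fun s _ hs => by
    rw [hc0 s (Finset.mem_erase.2 ⟨hs, Finset.mem_univ _⟩)]; simp) (by simp)] at hc
  simp only [OneMemClass.coe_one, map_one, mul_one] at hc
  rw [show c 1 = 0 from Subtype.ext hc]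
  exact M.zero_mem

end CfsgLib.EmbeddedModule
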