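import Mathlib
import Cfsg.Agent.LocalEven.SuzukiBound
import Cfsg.Agent.LocalEven.UnitaryBounds

/-!
# Module bounds for groups mapping onto the rank one groups, in terms of representations

The bounds of `LocalEven` are about a subgroup normalising an abelian subgroup; here they are read
off in the semidirect product of a representation space and the group.
-/

set_option autoImplicit false
set_option linter.style.haveILetI false

namespace CfsgLib.EmbeddedModule

open Subgroup CfsgLib.RepBounds.Unit CfsgLib.AutPSU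

variable {L V : Type*} [Group L] [AddCommGroup V] [Module (ZMod 2) V]

/-- The action of `L` on the space, written multiplicatively. -/
def mulAct (ρ : Representation (ZMod 2) L V) : L →* MulAut (Multiplicative V) where
  toFun g :=
    { toFun := fun v => Multiplicative.ofAdd (ρ g v.toAdd)
      invFun := fun v => Multiplicative.ofAdd (ρ g⁻¹ v.toAdd)
      left_inv := fun v => by
        simp only [toAdd_ofAdd]
        rw [← Module.End.mul_apply, ← map_mul, inv_mul_cancel, map_one, Module.End.one_apply,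
          ofAdd_toAdd]
      right_inv := fun v => by
        simp only [toAdd_ofAdd]
        rw [← Module.End.mul_apply, ← map_mul, mul_inv_cancel, map_one, Module.End.one_apply,
          ofAdd_toAdd]
      map_mul' := fun v w => by simp only [toAdd_mul, map_add, ofAdd_add] }
  map_one' := MulEquiv.ext fun v => by simp
  map_mul' g h := MulEquiv.ext fun v => by simp [MulAut.mul_apply]

/-- The copy of the space in the semidirect product. -/
abbrev spaceSub (ρ : Representation (ZMod 2) L V) : Subgroup (Multiplicative V ⋊[mulAct ρ] L) :=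
  SemidirectProduct.inl.range

/-- The copy of the group. -/
abbrev groupSub (ρ : Representation (ZMod 2) L V) : Subgroup (Multiplicative V ⋊[mulAct ρ] L) :=
  SemidirectProduct.inr.range

/-- The copy of the group is the group. -/
noncomputable def groupEquiv (ρ : Representation (ZMod 2) L V) : groupSub ρ ≃* L :=
  (MonoidHom.ofInjective SemidirectProduct.inr_injective).symm

theorem groupEquiv_symm_coe (ρ : Representation (ZMod 2) L V) (g : L) :
    (((groupEquiv ρ).symm g : groupSub ρ) : Multiplicative V ⋊[mulAct ρ] L) =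
      SemidirectProduct.inr g := rfl

theorem groupSub_le_normalizer (ρ : Representation (ZMod 2) L V) :
    groupSub ρ ≤ Subgroup.normalizer (spaceSub ρ : Set (Multiplicative V ⋊[mulAct ρ] L)) := by
  rintro _ ⟨g, rfl⟩
  rw [Subgroup.mem_normalizer_iff]
  intro x
  constructor
  · rintro ⟨v, rfl⟩
    exact ⟨mulAct ρ g v, by rw [SemidirectProduct.inl_aut, map_inv]⟩
  · rintro ⟨v, hv⟩
    refine ⟨mulAct ρ g⁻¹ v, ?_⟩
    rw [SemidirectProduct.inl_aut, hv, map_inv]
    group

variable {ρ : Representation (ZMod 2) L V}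

theorem inl_commute_iff (g : L) (v : Multiplicative V) :
    Commute (SemidirectProduct.inr g : Multiplicative V ⋊[mulAct ρ] L)
      (SemidirectProduct.inl v) ↔ ρ g v.toAdd = v.toAdd := by
  rw [commute_iff_eq, ← mul_inv_eq_iff_eq_mul, ← map_inv, ← SemidirectProduct.inl_aut,
    SemidirectProduct.inl_injective.eq_iff]
  exact (Multiplicative.ofAdd.eq_symm_apply).symm

theorem groupSub_inf_centralizer (hρ : Function.Injective ρ) :
    groupSub ρ ⊓ Subgroup.centralizer (spaceSub ρ : Set (Multiplicative V ⋊[mulAct ρ] L)) = ⊥ := by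
  rw [eq_bot_iff]
  rintro _ ⟨⟨g, rfl⟩, hg⟩
  have hg1 : g = 1 := hρ (LinearMap.ext fun v => by
    rw [map_one, Module.End.one_apply]
    exact (inl_commute_iff g (Multiplicative.ofAdd v)).1
      (Subgroup.mem_centralizer_iff.1 hg _ ⟨_, rfl⟩).symm)
  rw [Subgroup.mem_bot, hg1, map_one]

variable [Module.Finite (ZMod 2) V]

omit [Module.Finite (ZMod 2) V] in
theorem isPGroup_spaceSub : IsPGroup 2 (spaceSub ρ) := by
  rintro ⟨_, v, rfl⟩
  refine ⟨1, Subtype.ext ?_⟩
  rw [pow_one, SubmonoidClass.coe_pow, ← map_pow, pow_two, OneMemClass.coe_one]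
  convert map_one (SemidirectProduct.inl (φ := mulAct ρ)) using 2
  refine Multiplicative.toAdd.injective ?_
  rw [toAdd_mul, toAdd_one, ← two_smul (ZMod 2), show (2 : ZMod 2) = 0 from rfl, zero_smul]

theorem card_spaceSub : Nat.card (spaceSub ρ) = 2 ^ Module.finrank (ZMod 2) V := by
  rw [← Nat.card_congr (MonoidHom.ofInjective SemidirectProduct.inl_injective).toEquiv,
    Nat.card_congr Multiplicative.toAdd, Module.natCard_eq_pow_finrank (K := ZMod 2) (V := V),
    Nat.card_zmod]

/-- The number of translates moved is a power of two with exponent the rank. -/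
theorem relIndex_eq_pow_rank (s : L) :
    (spaceSub ρ ⊓ Subgroup.centralizer
      ({(SemidirectProduct.inr s : Multiplicative V ⋊[mulAct ρ] L)} : Set _)).relIndex (spaceSub ρ) =
      2 ^ Module.finrank (ZMod 2) (LinearMap.range (ρ s - 1)) := by
  haveI : Finite V := Module.finite_of_finite (ZMod 2)
  set K : Subgroup (Multiplicative V) := AddSubgroup.toSubgroup (LinearMap.ker (ρ s - 1)).toAddSubgroup
  have hmap : spaceSub ρ ⊓ Subgroup.centralizer
      ({(SemidirectProduct.inr s : Multiplicative V ⋊[mulAct ρ] L)} : Set _) =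
        K.map SemidirectProduct.inl := by
    ext x
    constructor
    · rintro ⟨⟨v, rfl⟩, hx⟩
      refine ⟨v, ?_, rfl⟩
      show v.toAdd ∈ LinearMap.ker (ρ s - 1)
      rw [LinearMap.mem_ker, LinearMap.sub_apply, Module.End.one_apply, sub_eq_zero]
      exact (inl_commute_iff s v).1 (Subgroup.mem_centralizer_singleton_iff.1 hx).symm
    · rintro ⟨v, hv, rfl⟩
      refine ⟨⟨v, rfl⟩, Subgroup.mem_centralizer_singleton_iff.2
        ((inl_commute_iff s v).2 ?_).symm.eq⟩
      have hv' : v.toAdd ∈ LinearMap.ker (ρ s - 1) := hv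
      rwa [LinearMap.mem_ker, LinearMap.sub_apply, Module.End.one_apply, sub_eq_zero] at hv'
  rw [hmap, spaceSub, MonoidHom.range_eq_map,
    Subgroup.relIndex_map_map_of_injective _ _ SemidirectProduct.inl_injective,
    Subgroup.relIndex_top_right]
  have h := K.card_mul_index
  have hK : Nat.card K = Nat.card (LinearMap.ker (ρ s - 1)) :=
    Nat.card_congr (Equiv.subtypeEquiv Multiplicative.toAdd fun v => Iff.rfl)
  rw [hK, Nat.card_congr Multiplicative.toAdd, Module.natCard_eq_pow_finrank (K := ZMod 2)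
    (V := LinearMap.ker (ρ s - 1)), Module.natCard_eq_pow_finrank (K := ZMod 2) (V := V),
    Nat.card_zmod, ← LinearMap.finrank_range_add_finrank_ker (ρ s - 1 : Module.End (ZMod 2) V), add_comm, pow_add] at h
  exact Nat.eq_of_mul_eq_mul_left (by positivity) h

variable [Finite L]

theorem finite_semidirect : Finite (Multiplicative V ⋊[mulAct ρ] L) := by
  haveI : Finite V := Module.finite_of_finite (ZMod 2)
  exact Finite.of_equiv _ SemidirectProduct.equivProd.symm

/-- `PSL₂(2^n)`. -/
theorem bounds_psl (hρ : Function.Injective ρ) {F : Type*} [Field F] [Fintype F] {n : ℕ}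
    (hn : 2 ≤ n) (hF : Fintype.card F = 2 ^ n)
    (π : L →* Matrix.ProjectiveSpecialLinearGroup (Fin 2) F) (hπ : Function.Surjective π)
    {s : L} (hs : s ^ 2 = 1) (hs1 : π s ≠ 1) :
    n ≤ Module.finrank (ZMod 2) (LinearMap.range (ρ s - 1)) ∧
      2 * n ≤ Module.finrank (ZMod 2) V := by
  haveI := finite_semidirect (ρ := ρ)
  haveI : Fact (Nat.Prime 2) := ⟨Nat.prime_two⟩
  obtain ⟨h1, h2⟩ := CfsgLib.LocalEven.ModuleBounds.bounds (p := 2) (isPGroup_spaceSub (ρ := ρ))
    (groupSub_le_normalizer ρ) (groupSub_inf_centralizer hρ) hF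
    (π.comp (groupEquiv ρ).toMonoidHom) (hπ.comp (groupEquiv ρ).surjective)
    (s := (groupEquiv ρ).symm s) ⟨1, by rw [pow_one, ← map_pow, hs, map_one]⟩ (by simpa using hs1)
  rw [groupEquiv_symm_coe, relIndex_eq_pow_rank] at h1
  have h2' := h2 hn
  rw [card_spaceSub] at h2'
  exact ⟨(Nat.pow_le_pow_iff_right one_lt_two).1 h1, (Nat.pow_le_pow_iff_right one_lt_two).1 h2'⟩

/-- `Sz(2^(2m+1))`. -/
theorem bounds_sz (hρ : Function.Injective ρ) {F : Type*} [Field F] [Fintype F] {m : ℕ}
    (hS : CfsgLib.Suzuki.SzField F m) (π : L →* Cfsg.Sz F m) (hπ : Function.Surjective π)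
    {s : L} (hs : orderOf (π s) = 2) :
    2 * (2 * m + 1) ≤ Module.finrank (ZMod 2) (LinearMap.range (ρ s - 1)) ∧
      4 * (2 * m + 1) ≤ Module.finrank (ZMod 2) V := by
  haveI := finite_semidirect (ρ := ρ)
  haveI : Fact (Nat.Prime 2) := ⟨Nat.prime_two⟩
  obtain ⟨r, hr, hr2, hdet, hprod⟩ := CfsgLib.LocalEven.ModuleBounds.exists_sz_product hS
  obtain ⟨g₀, g₁, hg⟩ := hprod _ hs
  obtain ⟨h1, h2⟩ := CfsgLib.LocalEven.ModuleBounds.bounds_of_product (p := 2)
    (isPGroup_spaceSub (ρ := ρ)) (groupSub_le_normalizer ρ) (groupSub_inf_centralizer hρ)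
    (π.comp (groupEquiv ρ).toMonoidHom) (hπ.comp (groupEquiv ρ).surjective)
    (s := (groupEquiv ρ).symm s) g₀ g₁ hr hr2 hdet (by simpa using hg)
  rw [groupEquiv_symm_coe, relIndex_eq_pow_rank] at h1
  rw [card_spaceSub] at h2
  have h1' := (Nat.pow_le_pow_iff_right one_lt_two).1 h1
  have h2' := (Nat.pow_le_pow_iff_right one_lt_two).1 h2
  exact ⟨h1', by omega⟩

/-- `PSU₃(2^n)`. -/
theorem bounds_psu (hρ : Function.Injective ρ) {F : Type*} [Field F] [Fintype F] (C : ConjField F)
    {n : ℕ} (hn : 2 ≤ n) (hq : C.q = 2 ^ n) (π : L →* PS C (Fin 2 ⊕ Fin 1))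
    (hπ : Function.Surjective π) {s : L} {v : Fin 2 ⊕ Fin 1 → F} (hs : TP C (π s) v) :
    2 * n ≤ Module.finrank (ZMod 2) (LinearMap.range (ρ s - 1)) ∧
      6 * n ≤ Module.finrank (ZMod 2) V := by
  haveI := finite_semidirect (ρ := ρ)
  haveI : Fact (Nat.Prime 2) := ⟨Nat.prime_two⟩
  have h3 : 3 ≤ C.q := by
    rw [hq]
    exact le_trans (by norm_num) (Nat.pow_le_pow_right two_pos hn)
  obtain ⟨h1, h2⟩ := CfsgLib.LocalEven.UnitaryBounds.bounds C (p := 2)
    (isPGroup_spaceSub (ρ := ρ)) (groupSub_le_normalizer ρ) (groupSub_inf_centralizer hρ) hq h3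
    (π.comp (groupEquiv ρ).toMonoidHom) (hπ.comp (groupEquiv ρ).surjective)
    (s := (groupEquiv ρ).symm s) (v := v) (by simpa using hs)
  rw [groupEquiv_symm_coe, relIndex_eq_pow_rank, hq, ← pow_mul] at h1
  rw [card_spaceSub, hq, ← pow_mul] at h2
  have h1' := (Nat.pow_le_pow_iff_right one_lt_two).1 h1
  have h2' := (Nat.pow_le_pow_iff_right one_lt_two).1 h2
  exact ⟨by omega, by omega⟩

end CfsgLib.EmbeddedModule
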